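import Mathlib
import Cfsg.Agent.Lib.Involutions.ThompsonTransfer

/-!
Local structure of a simple group with an abelian Sylow subgroup `P` of odd order, a TI centralizer of
`P` of order `2|P|` and normalizer of order `4|P|`, such that the proper even subgroups have order
dividing `4|P|`; and the order of such a group.
-/

set_option linter.style.haveILetI false

namespace Cfsg.Agent.GStructB.AbelianSylowThree

open Subgroup

universe u

variable {G : Type u} [Group G]

/-- The raw hypotheses. -/
structure Hyp (p : ℕ) (P : Sylow p G) : Prop where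
  simple : IsSimpleGroup G
  nonab : ∃ a b : G, a * b ≠ b * a
  oddp : Odd p
  comm : ∀ a ∈ (P : Subgroup G), ∀ b ∈ (P : Subgroup G), a * b = b * a
  hN : Nat.card (normalizer ((P : Subgroup G) : Set G)) = 4 * Nat.card P
  hC : Nat.card (centralizer (P : Set G)) = 2 * Nat.card P
  ti : ∀ g : G, g ∉ normalizer (centralizer (P : Set G) : Set G) →
    ∀ x ∈ centralizer (P : Set G), g * x * g⁻¹ ∈ centralizer (P : Set G) → x = 1
  even_dvd : ∀ H : Subgroup G, H ≠ ⊤ → 2 ∣ Nat.card H → Nat.card H ∣ 4 * Nat.card P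

/-- What the character theory uses. -/
structure Setup (C : Subgroup G) (t u : G) (n : ℕ) : Prop where
  comm : ∀ a ∈ C, ∀ b ∈ C, a * b = b * a
  t_mem : t ∈ C
  t_ord : orderOf t = 2
  cardC : Nat.card C = 2 * n
  odd : Odd n
  inv_C : ∀ c ∈ C, u⁻¹ * c * u = c⁻¹
  u_norm : u ∈ normalizer (C : Set G)
  cent_t : centralizer ({t} : Set G) = normalizer (C : Set G)
  cardN : Nat.card (normalizer (C : Set G)) = 4 * n
  ti : ∀ g x : G, x ∈ C → x ≠ 1 → g * x * g⁻¹ ∈ C → g ∈ normalizer (C : Set G)
  conj_t : ∀ w : G, orderOf w = 2 → IsConj t w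
  gen : ∀ c ∈ C, c ^ n = 1 ∨ (c * t) ^ n = 1
  inv_eq : ∀ c ∈ C, orderOf c = 2 → c = t
  notC : ∀ w ∈ normalizer (C : Set G), w ∉ C → orderOf w = 2

variable [Finite G] {p : ℕ} [hp : Fact p.Prime] {P : Sylow p G}

theorem odd_card (h : Hyp p P) : Odd (Nat.card P) := by
  obtain ⟨k, hk⟩ := IsPGroup.iff_card.1 P.2
  rw [hk]; exact h.oddp.pow

theorem centralizer_ne_top (h : Hyp p P) {g : G} (hg : g ≠ 1) :
    centralizer ({g} : Set G) ≠ ⊤ := by
  intro e
  have := h.simple
  have hm : g ∈ center G := mem_center_iff.2 fun x => by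
    have : x ∈ centralizer ({g} : Set G) := e ▸ mem_top x
    exact mem_centralizer_singleton_iff.1 this
  rcases (inferInstance : (center G).Normal).eq_bot_or_eq_top with e' | e'
  · exact hg (by rwa [e', mem_bot] at hm)
  · obtain ⟨a, b, hab⟩ := h.nonab
    exact hab (mem_center_iff.1 (e' ▸ mem_top b) a)

theorem no_index_two (h : Hyp p P) (H : Subgroup G) : H.index ≠ 2 := by
  intro e
  have := h.simple
  have hn := normal_of_index_eq_two e
  rcases hn.eq_bot_or_eq_top with rfl | rfl
  · rw [index_bot] at e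
    obtain ⟨a, b, hab⟩ := h.nonab
    have := isCyclic_of_prime_card (α := G) (p := 2) e
    exact hab (IsCyclic.commGroup.mul_comm a b)
  · simp at e

theorem two_dvd (h : Hyp p P) : 4 ∣ Nat.card G :=
  (dvd_mul_right 4 _).trans (h.hN ▸ Subgroup.card_subgroup_dvd_card _)

/-- Every Sylow 2-subgroup has order four. -/
theorem sylow_two_card (h : Hyp p P) (S : Sylow 2 G) : Nat.card S = 4 := by
  haveI : Fact (Nat.Prime 2) := ⟨Nat.prime_two⟩
  obtain ⟨k, hk⟩ := IsPGroup.iff_card.1 S.2
  have h4 : 2 ^ 2 ∣ Nat.card S := S.pow_dvd_card_of_pow_dvd_card (two_dvd h)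
  haveI : Nontrivial (S : Subgroup G) := Finite.one_lt_card_iff_nontrivial.1
    (lt_of_lt_of_le (by norm_num) (Nat.le_of_dvd Nat.card_pos h4))
  haveI := S.2.center_nontrivial
  obtain ⟨⟨z, hz⟩, hz1⟩ := exists_ne (1 : center (S : Subgroup G))
  have hzne : (z : G) ≠ 1 := fun e => hz1 (Subtype.ext (Subtype.ext e))
  have hle : (S : Subgroup G) ≤ centralizer ({(z : G)} : Set G) := fun s hs =>
    mem_centralizer_singleton_iff.2 (congrArg Subtype.val (mem_center_iff.1 hz ⟨s, hs⟩))
  have hd := Subgroup.card_dvd_of_le hle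
  have h2 : 2 ∣ Nat.card (centralizer ({(z : G)} : Set G)) :=
    ((dvd_pow_self 2 two_ne_zero).trans h4).trans hd
  have hdd : Nat.card S ∣ 4 * Nat.card P := hd.trans (h.even_dvd _ (centralizer_ne_top h hzne) h2)
  have hco : (Nat.card S).Coprime (Nat.card P) := by
    rw [hk]
    exact Nat.Coprime.pow_left _ ((odd_card h).coprime_two_left)
  exact Nat.dvd_antisymm (hco.dvd_of_dvd_mul_right hdd) h4

theorem sylow_two_comm (h : Hyp p P) (S : Sylow 2 G) :
    ∀ a ∈ (S : Subgroup G), ∀ b ∈ (S : Subgroup G), a * b = b * a := by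
  haveI : Fact (Nat.Prime 2) := ⟨Nat.prime_two⟩
  intro a ha b hb
  exact congrArg Subtype.val
    ((IsPGroup.commGroupOfCardEqPrimeSq (p := 2) (G := (S : Subgroup G))
      (by rw [sylow_two_card h S]; norm_num)).mul_comm ⟨a, ha⟩ ⟨b, hb⟩)

theorem sylow_two_sq (h : Hyp p P) (S : Sylow 2 G) {a : G} (ha : a ∈ (S : Subgroup G)) :
    a ^ 2 = 1 := by
  haveI : Fact (Nat.Prime 2) := ⟨Nat.prime_two⟩
  have hnc : ¬ IsCyclic (S : Subgroup G) := by
    intro hc
    obtain ⟨H, hH⟩ := Involutions.ThompsonTransfer.exists_index_two_of_isCyclic_sylow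
      (even_iff_two_dvd.2 ((dvd_trans (by norm_num) (two_dvd h)))) S hc
    exact no_index_two h H hH
  have hc : Nat.card (S : Subgroup G) = 2 ^ 2 := by rw [sylow_two_card h S]; norm_num
  have he := (not_isCyclic_iff_exponent_eq_prime Nat.prime_two hc).1 hnc
  have := Monoid.pow_exponent_eq_one (G := (S : Subgroup G)) ⟨a, ha⟩
  rw [he] at this
  exact congrArg Subtype.val this

theorem no_four (h : Hyp p P) {x : G} (hx : x ^ 4 = 1) : x ^ 2 = 1 := by
  haveI : Fact (Nat.Prime 2) := ⟨Nat.prime_two⟩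
  obtain ⟨j, -, hj⟩ := (Nat.dvd_prime_pow Nat.prime_two).1
    (show orderOf x ∣ 2 ^ 2 from orderOf_dvd_of_pow_eq_one hx)
  have hp2 : IsPGroup 2 (zpowers x) := IsPGroup.of_card (by rw [Nat.card_zpowers, hj])
  obtain ⟨S, hS⟩ := hp2.exists_le_sylow
  exact sylow_two_sq h S (hS (mem_zpowers x))

theorem two_conj (h : Hyp p P) (S : Sylow 2 G) {a b : G} (ha : a ∈ (S : Subgroup G))
    (hb : b ∈ (S : Subgroup G)) (ha1 : a ≠ 1) (hb1 : b ≠ 1) : IsConj a b := by
  haveI : Fact (Nat.Prime 2) := ⟨Nat.prime_two⟩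
  have hob : orderOf b = 2 := orderOf_eq_prime (sylow_two_sq h S hb) hb1
  have hoa : orderOf a = 2 := orderOf_eq_prime (sylow_two_sq h S ha) ha1
  have hle : zpowers b ≤ (S : Subgroup G) := zpowers_le.2 hb
  have hrel : (zpowers b).relIndex S = 2 := by
    have h1 := relIndex_mul_relIndex (⊥ : Subgroup G) (zpowers b) S bot_le hle
    rw [relIndex_bot_left, relIndex_bot_left, Nat.card_zpowers, hob, sylow_two_card h S] at h1
    omega
  obtain ⟨g, hg⟩ := Involutions.ThompsonTransfer.exists_conj_mem (no_index_two h) S _ hle hrel a hoa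
  refine isConj_iff.2 ⟨g, ?_⟩
  obtain ⟨i, hi⟩ := mem_zpowers_iff.1 hg
  have : b ^ i = 1 ∨ b ^ i = b := by
    rw [← zpow_mod_orderOf, hob]
    rcases Int.emod_two_eq i with e | e <;> simp [e]
  rcases this with e | e
  · rw [e] at hi
    exact absurd (conj_eq_one_iff.1 hi.symm) ha1
  · rw [← hi, e]

theorem involution_conj (h : Hyp p P) {a b : G} (ha : orderOf a = 2) (hb : orderOf b = 2) :
    IsConj a b := by
  haveI : Fact (Nat.Prime 2) := ⟨Nat.prime_two⟩
  have hpa : ∀ x : G, orderOf x = 2 → IsPGroup 2 (zpowers x) := fun x hx =>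
    IsPGroup.of_card (n := 1) (by rw [Nat.card_zpowers, hx, pow_one])
  obtain ⟨S, hS⟩ := (hpa a ha).exists_le_sylow
  obtain ⟨S', hS'⟩ := (hpa b hb).exists_le_sylow
  obtain ⟨g, hg⟩ := MulAction.exists_smul_eq G S' S
  have hb' : g * b * g⁻¹ ∈ (S : Subgroup G) := by
    rw [← hg, Sylow.smul_def, Sylow.pointwise_smul_def]
    exact ⟨b, hS' (mem_zpowers b), rfl⟩
  have hne : ∀ x : G, orderOf x = 2 → x ≠ 1 := fun x hx e => by simp [e] at hx
  exact (two_conj h S (hS (mem_zpowers a)) hb' (hne a ha) (fun e => hne b hb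
    (conj_eq_one_iff.1 e))).trans (isConj_iff.2 ⟨g⁻¹, by group⟩)

/-- The structure used by the character theory. -/
theorem exists_setup (h : Hyp p P) :
    ∃ t u, Setup (centralizer (P : Set G)) t u (Nat.card P) := by
  haveI : Fact (Nat.Prime 2) := ⟨Nat.prime_two⟩
  set C := centralizer (P : Set G) with hCdef
  set n := Nat.card P with hn
  have hodd : Odd n := odd_card h
  have hnpos : 0 < n := Nat.card_pos
  have hPC : (P : Subgroup G) ≤ C := fun x hx =>
    mem_centralizer_iff.2 fun y hy => h.comm y hy x hx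
  have hPpow : ∀ x ∈ C, x ^ n = 1 → x ∈ (P : Subgroup G) := by
    intro x hx hxn
    have hpg : IsPGroup p (zpowers x) := by
      obtain ⟨k, hk⟩ := IsPGroup.iff_card.1 P.2
      have : Nat.card (zpowers x) ∣ p ^ k := by
        rw [Nat.card_zpowers, ← hk]; exact orderOf_dvd_of_pow_eq_one hxn
      obtain ⟨j, -, hj⟩ := (Nat.dvd_prime_pow hp.out).1 this
      exact IsPGroup.of_card hj
    have hle : zpowers x ≤ normalizer ((P : Subgroup G) : Set G) :=
      zpowers_le.2 (centralizer_le_normalizer _ hx)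
    have hsup := hpg.to_sup_of_normal_right' P.2 hle
    exact (P.3 hsup le_sup_right) ▸ mem_sup_left (mem_zpowers x)
  have hPn : ∀ x ∈ (P : Subgroup G), x ^ n = 1 := fun x hx => by
    have := congrArg Subtype.val (pow_card_eq_one' (x := (⟨x, hx⟩ : (P : Subgroup G))))
    exact this
  -- an involution in C
  obtain ⟨⟨t, htC⟩, ht'⟩ := exists_prime_orderOf_dvd_card' (G := C) 2 (by rw [h.hC]; exact dvd_mul_right _ _)
  have ht : orderOf t = 2 := by rwa [Subgroup.orderOf_mk] at ht'
  have ht1 : t ≠ 1 := fun e => by simp [e] at ht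
  have htt : t * t = 1 := by rw [← pow_two, ← ht, pow_orderOf_eq_one]
  have htP : t ∉ (P : Subgroup G) := fun hm => by
    have h2 := orderOf_dvd_of_pow_eq_one (hPn t hm)
    rw [ht] at h2
    obtain ⟨m, hm⟩ := hodd
    omega
  have hidx : ((P : Subgroup G).subgroupOf C).index = 2 := by
    have h1 := relIndex_mul_relIndex (⊥ : Subgroup G) P C bot_le hPC
    rw [relIndex_bot_left, relIndex_bot_left, h.hC, mul_comm 2] at h1
    exact Nat.eq_of_mul_eq_mul_left hnpos h1
  have hdec : ∀ c ∈ C, c ∈ (P : Subgroup G) ∨ c * t ∈ (P : Subgroup G) := by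
    intro c hc
    by_cases h1 : c ∈ (P : Subgroup G)
    · exact Or.inl h1
    · refine Or.inr ?_
      have := (mul_mem_iff_of_index_two hidx (a := (⟨c, hc⟩ : C)) (b := ⟨t, htC⟩)).2
        (iff_of_false (by simpa [mem_subgroupOf] using h1) (by simpa [mem_subgroupOf] using htP))
      simpa [mem_subgroupOf] using this
  have htx : ∀ x ∈ (P : Subgroup G), x * t = t * x := fun x hx =>
    mem_centralizer_iff.1 htC x hx
  have hcomm : ∀ a ∈ C, ∀ b ∈ C, a * b = b * a := by
    intro a ha b hb
    have key : ∀ x ∈ C, Commute x t ∧ ∀ y ∈ (P : Subgroup G), Commute y x := by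
      intro x hx
      refine ⟨?_, fun y hy => mem_centralizer_iff.1 hx y hy⟩
      rcases hdec x hx with e | e
      · exact htx x e
      · have h1 : Commute (x * t) t := htx _ e
        have h2 := h1.mul_left (Commute.refl t)
        rwa [mul_assoc, htt, mul_one] at h2
    obtain ⟨hat, haP⟩ := key a ha
    rcases hdec b hb with e | e
    · exact (haP b e).symm
    · have h1 : Commute a (b * t * t) := ((haP _ e).symm).mul_right hat
      rwa [mul_assoc, htt, mul_one] at h1
  have hinv : ∀ c ∈ C, orderOf c = 2 → c = t := by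
    intro c hc hoc
    have hcc : c * c = 1 := by rw [← pow_two, ← hoc, pow_orderOf_eq_one]
    have key : ∀ x ∈ (P : Subgroup G), x * x = 1 → x = 1 := fun x hx hxx => by
      rw [← orderOf_eq_one_iff]
      refine Nat.dvd_one.1 ?_
      have h1 := Nat.dvd_gcd (orderOf_dvd_of_pow_eq_one (by rwa [pow_two] : x ^ 2 = 1))
        (orderOf_dvd_of_pow_eq_one (hPn x hx))
      rwa [show Nat.gcd 2 n = 1 from hodd.coprime_two_left] at h1
    rcases hdec c hc with e | e
    · exact absurd (key c e hcc) fun e1 => by simp [e1] at hoc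
    · have hct : Commute c t := hcomm c hc t htC
      have : c * t = 1 := key _ e (by rw [show c * t * (c * t) = (c * c) * (t * t) from
        hct.symm.mul_mul_mul_comm c t, hcc, htt, one_mul])
      rw [mul_eq_one_iff_eq_inv.1 this, inv_eq_of_mul_eq_one_right htt]
  -- the normalizer
  have hNN : normalizer (C : Set G) = normalizer ((P : Subgroup G) : Set G) := by
    apply le_antisymm
    · intro g hg
      have hfwd : ∀ g ∈ normalizer (C : Set G), ∀ x ∈ (P : Subgroup G), g * x * g⁻¹ ∈ (P : Subgroup G) := by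
        intro g hg x hx
        refine hPpow _ ((mem_normalizer_iff.1 hg x).1 (hPC hx)) ?_
        rw [conj_pow, hPn x hx]; group
      refine mem_normalizer_iff.2 fun x => ⟨hfwd g hg x, fun hx => ?_⟩
      have := hfwd g⁻¹ (inv_mem hg) _ hx
      simpa [mul_assoc] using this
    · intro g hg
      have hfwd : ∀ g ∈ normalizer ((P : Subgroup G) : Set G), ∀ x ∈ C, g * x * g⁻¹ ∈ C := by
        intro g hg x hx
        refine mem_centralizer_iff.2 fun y hy => ?_
        have hy' : g⁻¹ * y * g ∈ (P : Subgroup G) := (mem_normalizer_iff''.1 hg y).1 hy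
        have := mem_centralizer_iff.1 hx _ hy'
        calc y * (g * x * g⁻¹) = g * ((g⁻¹ * y * g) * x) * g⁻¹ := by group
          _ = g * (x * (g⁻¹ * y * g)) * g⁻¹ := by rw [this]
          _ = g * x * g⁻¹ * y := by group
      refine mem_normalizer_iff.2 fun x => ⟨hfwd g hg x, fun hx => ?_⟩
      have := hfwd g⁻¹ (inv_mem hg) _ hx
      simpa [mul_assoc] using this
  have hcardN : Nat.card (normalizer (C : Set G)) = 4 * n := by rw [hNN, h.hN]
  -- the centralizer of t
  set M := centralizer ({t} : Set G) with hM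
  have hCM : C ≤ M := fun c hc => mem_centralizer_singleton_iff.2 (hcomm c hc t htC)
  have hCdvd := Subgroup.card_dvd_of_le hCM
  rw [h.hC] at hCdvd
  have hMdvd : Nat.card M ∣ 4 * n := h.even_dvd M (centralizer_ne_top h ht1)
    ((dvd_mul_right 2 n).trans hCdvd)
  have hM4 : 4 ∣ Nat.card M := by
    obtain ⟨S, hS⟩ := (IsPGroup.of_card (p := 2) (n := 1) (G := zpowers t)
      (by rw [Nat.card_zpowers, ht, pow_one])).exists_le_sylow
    rw [← sylow_two_card h S]
    exact Subgroup.card_dvd_of_le fun s hs =>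
      mem_centralizer_singleton_iff.2 (sylow_two_comm h S s hs t (hS (mem_zpowers t)))
  have hMcard : Nat.card M = 4 * n := by
    refine Nat.dvd_antisymm hMdvd (Nat.Coprime.mul_dvd_of_dvd_of_dvd ?_ hM4 ((dvd_mul_left n 2).trans hCdvd))
    have := hodd.coprime_two_left
    exact Nat.Coprime.pow_left 2 this
  have hMN : M = normalizer (C : Set G) := by
    haveI : (C.subgroupOf M).Normal := by
      refine normal_of_index_eq_two ?_
      have h1 := relIndex_mul_relIndex (⊥ : Subgroup G) C M bot_le hCM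
      rw [relIndex_bot_left, relIndex_bot_left, h.hC, hMcard] at h1
      show C.relIndex M = 2
      exact Nat.eq_of_mul_eq_mul_left (by omega : 0 < 2 * n) (by rw [h1]; ring)
    have hle : M ≤ normalizer (C : Set G) := normal_subgroupOf_iff_le_normalizer hCM |>.1 this
    exact eq_of_le_of_card_ge hle (by rw [hMcard, hcardN])
  -- another involution in N
  obtain ⟨S, hS⟩ := (IsPGroup.of_card (p := 2) (n := 1) (G := zpowers t)
      (by rw [Nat.card_zpowers, ht, pow_one])).exists_le_sylow
  obtain ⟨u, huS, hu1, hut⟩ : ∃ u ∈ (S : Subgroup G), u ≠ 1 ∧ u ≠ t := by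
    by_contra hno
    push Not at hno
    have hsub : ((S : Subgroup G) : Set G) ⊆ {1, t} := fun x hx => by
      by_cases hx1 : x = 1
      · exact Or.inl hx1
      · exact Or.inr (hno x hx hx1)
    have h1 := Set.ncard_le_ncard hsub
    rw [Set.ncard_pair (Ne.symm ht1), ← Nat.card_coe_set_eq] at h1
    have h2 := sylow_two_card h S
    exact absurd (le_of_eq_of_le h2.symm h1) (by norm_num)
  have huN : u ∈ normalizer (C : Set G) := hMN ▸
    mem_centralizer_singleton_iff.2 (sylow_two_comm h S u huS t (hS (mem_zpowers t)))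
  have huu : u * u = 1 := by rw [← pow_two, sylow_two_sq h S huS]
  have huo : orderOf u = 2 := orderOf_eq_prime (sylow_two_sq h S huS) hu1
  have huC : u ∉ C := fun e => hut (hinv u e huo)
  have hidxN : (C.subgroupOf (normalizer (C : Set G))).index = 2 := by
    have h1 := relIndex_mul_relIndex (⊥ : Subgroup G) C (normalizer (C : Set G)) bot_le le_normalizer
    rw [relIndex_bot_left, relIndex_bot_left, h.hC, hcardN] at h1
    exact Nat.eq_of_mul_eq_mul_left (by omega : 0 < 2 * n) (h1.trans (by ring))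
  have hti : ∀ g x : G, x ∈ C → x ≠ 1 → g * x * g⁻¹ ∈ C → g ∈ normalizer (C : Set G) := by
    intro g x hx hx1 hgx
    by_contra hg
    exact hx1 (h.ti g hg x hx hgx)
  have huinvP : ∀ x ∈ (P : Subgroup G), u⁻¹ * x * u = x⁻¹ := by
    intro x hx
    have hui : u⁻¹ = u := inv_eq_of_mul_eq_one_right huu
    have hux : u * x * u ∈ (P : Subgroup G) := by
      have := (mem_normalizer_iff.1 (hNN ▸ huN) x).1 hx
      rwa [hui] at this
    have hfix : ∀ y ∈ (P : Subgroup G), u * y = y * u → y = 1 := by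
      intro y hy huy
      obtain ⟨g, hg⟩ := isConj_iff.1 (involution_conj h ht huo)
      by_contra hy1
      have hm : g⁻¹ * y * g ∈ M := by
        refine mem_centralizer_singleton_iff.2 ?_
        calc g⁻¹ * y * g * t = g⁻¹ * (y * (g * t * g⁻¹)) * g := by group
          _ = g⁻¹ * ((g * t * g⁻¹) * y) * g := by rw [hg, huy]
          _ = t * (g⁻¹ * y * g) := by group
      set z := g⁻¹ * y * g with hz
      have hzn : z ^ n = 1 := by
        have := conj_pow (i := n) (a := g⁻¹) (b := y)
        rw [inv_inv] at this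
        rw [hz, this, hPn y hy]; group
      have hzC : z ∈ C := by
        by_contra hzC
        have hz2 := (mul_mem_iff_of_index_two hidxN (a := (⟨z, hMN ▸ hm⟩ : normalizer (C : Set G)))
          (b := ⟨z, hMN ▸ hm⟩)).2 Iff.rfl
        have hz2' : z ^ 2 ∈ C := by simpa [mem_subgroupOf, pow_two] using hz2
        obtain ⟨m, hm'⟩ := hodd
        apply hzC
        have : z = (z ^ 2) ^ (m + 1) := by
          rw [← pow_mul, show 2 * (m + 1) = n + 1 by omega, pow_succ, hzn, one_mul]
        rw [this]; exact pow_mem hz2' _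
      have hgN := hti g z hzC (fun e => hy1 (by
        rw [show y = g * z * g⁻¹ by rw [hz]; group, e]; group)) (by
          rw [show g * z * g⁻¹ = y by rw [hz]; group]; exact hPC hy)
      rw [← hMN, hM, mem_centralizer_singleton_iff] at hgN
      exact hut (by rw [← hg, hgN]; group)
    have h1 : x * (u * x * u) = 1 := by
      refine hfix _ (mul_mem hx hux) ?_
      have hc := h.comm x hx _ hux
      calc u * (x * (u * x * u)) = (u * x * u) * x * u := by
            rw [mul_assoc (u * x * u) x u]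
            simp [mul_assoc]
        _ = x * (u * x * u) * u := by rw [← hc]
    rw [hui]
    exact eq_inv_of_mul_eq_one_right h1
  have hinvC : ∀ c ∈ C, u⁻¹ * c * u = c⁻¹ := by
    intro c hc
    have hut' : u⁻¹ * t * u = t⁻¹ := by
      have := hS (mem_zpowers t)
      rw [mul_assoc, sylow_two_comm h S t this u huS, inv_mul_cancel_left,
        inv_eq_of_mul_eq_one_right htt]
    rcases hdec c hc with e | e
    · exact huinvP c e
    · have h1 := huinvP _ e
      calc u⁻¹ * c * u = (u⁻¹ * (c * t) * u) * (u⁻¹ * t * u) := by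
            rw [show (u⁻¹ * (c * t) * u) * (u⁻¹ * t * u) = u⁻¹ * (c * (t * t)) * u by group, htt,
              mul_one]
        _ = (c * t)⁻¹ * t⁻¹ := by rw [h1, hut']
        _ = c⁻¹ := by
          rw [hcomm c hc t htC, mul_inv_rev, inv_eq_of_mul_eq_one_right htt, mul_assoc, htt, mul_one]
  refine ⟨t, u, hcomm, htC, ht, h.hC, hodd, hinvC, huN, hMN, hcardN, hti,
    fun w hw => involution_conj h ht hw, fun c hc => (hdec c hc).imp (hPn c) (hPn _), hinv, ?_⟩
  intro w hw hwC
  have h1 := (mul_mem_iff_of_index_two hidxN (a := (⟨u, huN⟩ : normalizer (C : Set G)))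
    (b := ⟨w, hw⟩)).2 (iff_of_false (by simpa [mem_subgroupOf] using huC)
      (by simpa [mem_subgroupOf] using hwC))
  have h2 : u * w ∈ C := by simpa [mem_subgroupOf] using h1
  have hww : w * w = 1 := by
    have h3 := hinvC _ h2
    rw [show u⁻¹ * (u * w) * u = w * u by group, mul_inv_rev,
      inv_eq_of_mul_eq_one_right huu] at h3
    have : w = w⁻¹ := mul_right_cancel h3
    nth_rw 2 [this]; exact mul_inv_cancel w
  exact orderOf_eq_prime (by rw [pow_two, hww]) fun e => hwC (e ▸ one_mem _)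

end Cfsg.Agent.GStructB.AbelianSylowThree
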