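import Mathlib
import Cfsg.Agent.GStructB.AbelianSylowThree.Group
import Cfsg.Agent.Lib.Characters.Inner

/-!
The order of the group: counting pairs of involutions.
-/

set_option linter.style.haveILetI false

namespace Cfsg.Agent.GStructB.AbelianSylowThree

open Subgroup

universe u

variable {G : Type u} [Group G] [Fintype G] {C : Subgroup G} {t u : G} {n : ℕ}

/-- The involutions. -/
noncomputable def invs (G : Type u) [Group G] [Fintype G] : Finset G := by
  classical exact Finset.univ.filter fun w => orderOf w = 2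

theorem mem_invs {w : G} : w ∈ invs G ↔ orderOf w = 2 := by
  classical simp [invs]

theorem fibre_conj {y x : G} (a₀ : G) (ha : a₀ * y * a₀⁻¹ = x) [DecidableEq G] :
    (Finset.univ.filter fun a : G => a * y * a⁻¹ = x).card = Nat.card (centralizer ({y} : Set G)) := by
  rw [← Fintype.card_subtype, ← Nat.card_eq_fintype_card]
  refine Nat.card_congr
    { toFun := fun a => ⟨a₀⁻¹ * a.1, mem_centralizer_singleton_iff.2 ?_⟩
      invFun := fun c => ⟨a₀ * c.1, ?_⟩
      left_inv := fun a => Subtype.ext (mul_inv_cancel_left _ _)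
      right_inv := fun c => Subtype.ext (inv_mul_cancel_left _ _) }
  · have e := a.2
    calc a₀⁻¹ * a.1 * y = a₀⁻¹ * (a.1 * y * a.1⁻¹) * a.1 := by group
      _ = a₀⁻¹ * (a₀ * y * a₀⁻¹) * a.1 := by rw [e, ha]
      _ = y * (a₀⁻¹ * a.1) := by group
  · calc a₀ * c.1 * y * (a₀ * c.1)⁻¹ = a₀ * (c.1 * y * (c.1)⁻¹) * a₀⁻¹ := by group
      _ = x := by rw [mem_centralizer_singleton_iff.1 c.2, mul_inv_cancel_right, ha]

theorem card_invs_mul (h : Setup C t u n) : (invs G).card * (4 * n) = Fintype.card G := by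
  classical
  rw [← Finset.card_univ, Finset.card_eq_sum_card_fiberwise (s := Finset.univ) (t := invs G)
    (f := fun g : G => g * t * g⁻¹) (fun g _ => by
      rw [Finset.mem_coe, mem_invs, ← h.t_ord]
      exact ((MulAut.conj g).orderOf_eq t))]
  rw [Finset.sum_congr rfl fun w hw => ?_, Finset.sum_const, smul_eq_mul]
  obtain ⟨g, hg⟩ := isConj_iff.1 (h.conj_t w (mem_invs.1 hw))
  rw [fibre_conj g hg, h.cent_t, h.cardN]

/-- The elements mapping `x` to its inverse by conjugation, for `x ∈ C`, are outside `C`. -/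
theorem inv_pairs (h : Setup C t u n) {x : G} (hx : x ∈ C) (hx1 : x ≠ 1) {a : G} :
    (orderOf a = 2 ∧ orderOf (a * x) = 2) ↔ (a ∈ normalizer (C : Set G) ∧ a ∉ C) := by
  constructor
  · rintro ⟨ha, hax⟩
    have haa : a * a = 1 := by rw [← pow_two, ← ha, pow_orderOf_eq_one]
    have haxx : a * x * (a * x) = 1 := by rw [← pow_two, ← hax, pow_orderOf_eq_one]
    have hcx : a * x * a⁻¹ = x⁻¹ := by
      rw [inv_eq_of_mul_eq_one_right haa]
      exact eq_inv_of_mul_eq_one_left (by rw [mul_assoc, haxx])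
    refine ⟨h.ti a x hx hx1 (hcx ▸ inv_mem hx), fun haC => ?_⟩
    have hat := h.inv_eq a haC ha
    have hxx := h.inv_eq (a * x) (mul_mem haC hx) hax
    rw [hat] at hxx
    exact hx1 (mul_eq_left.1 hxx)
  · rintro ⟨haN, haC⟩
    exact ⟨h.notC a haN haC, h.notC _ (mul_mem haN (le_normalizer hx)) fun e =>
      haC (by simpa using mul_mem e (inv_mem hx))⟩

theorem card_notC (h : Setup C t u n) [DecidablePred (fun a => a ∈ normalizer (C : Set G) ∧ a ∉ C)] :
    (Finset.univ.filter fun a : G => a ∈ normalizer (C : Set G) ∧ a ∉ C).card = 2 * n := by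
  classical
  have h1 : ∀ H : Subgroup G, (Finset.univ.filter fun a : G => a ∈ H).card = Nat.card H := fun H => by
    rw [← Fintype.card_subtype, ← Nat.card_eq_fintype_card]
  have h2 := Finset.card_filter_add_card_filter_not (s := Finset.univ.filter fun a : G => a ∈ normalizer (C : Set G))
    (fun a => a ∈ C)
  rw [h1, h.cardN, Finset.filter_filter, Finset.filter_filter] at h2
  rw [Finset.filter_congr (p := fun a => a ∈ normalizer (C : Set G) ∧ a ∈ C) (q := fun a => a ∈ C)
    (fun a _ => and_iff_right_of_imp fun ha => le_normalizer ha), h1, h.cardC] at h2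
  have h3 : 2 * n + (Finset.univ.filter fun a : G => a ∈ normalizer (C : Set G) ∧ a ∉ C).card = 4 * n := by
    convert h2
  omega

/-- The product of two distinct involutions is conjugate to a nontrivial element of `C`. -/
def Covered (C : Subgroup G) : Prop :=
  ∀ a b : G, orderOf a = 2 → orderOf b = 2 → a ≠ b → ∃ g c, c ∈ C ∧ c ≠ 1 ∧ g * c * g⁻¹ = a * b

theorem card_eq (h : Setup C t u n) (hcov : Covered C) :
    Fintype.card G = 4 * n * (2 * n * (2 * n - 1) + 1) := by
  classical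
  set I := invs G with hI
  have hIG := card_invs_mul h
  set D : Finset G := Finset.univ.filter fun c => c ∈ C ∧ c ≠ 1 with hD
  have hDcard : D.card = 2 * n - 1 := by
    rw [hD, show (Finset.univ.filter fun c => c ∈ C ∧ c ≠ 1) =
      (Finset.univ.filter fun c => c ∈ C).erase 1 by ext; simp [and_comm]]
    rw [Finset.card_erase_of_mem (by simp), ← Fintype.card_subtype, ← Nat.card_eq_fintype_card, h.cardC]
  set Q : Finset ((G × G) × G) :=
    ((Finset.univ ×ˢ D) ×ˢ I).filter fun q => q.2 * (q.1.1 * q.1.2 * q.1.1⁻¹) ∈ I with hQ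
  have e1 : Q.card = Fintype.card G * (2 * n - 1) * (2 * n) := by
    rw [Finset.card_eq_sum_card_fiberwise (s := Q) (t := (Finset.univ ×ˢ D)) (f := fun q => q.1)
      (fun q hq => (Finset.mem_product.1 (Finset.mem_filter.1 hq).1).1)]
    rw [Finset.sum_congr rfl fun gc hgc => ?_, Finset.sum_const, Finset.card_product,
      Finset.card_univ, hDcard, smul_eq_mul]
    obtain ⟨-, hc⟩ := Finset.mem_product.1 hgc
    obtain ⟨hcC, hc1⟩ := (Finset.mem_filter.1 hc).2
    obtain ⟨g, c⟩ := gc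
    rw [← card_notC h]
    refine Finset.card_nbij' (fun q => g⁻¹ * q.2 * g) (fun a => ((g, c), g * a * g⁻¹)) ?_ ?_ ?_ ?_
    · intro q hq
      obtain ⟨⟨gq, cq⟩, aq⟩ := q
      obtain ⟨hm, he⟩ : ((gq, cq), aq) ∈ Q ∧ ((gq, cq), aq).1 = (g, c) := by simpa using hq
      clear hq
      simp only [hQ, Finset.mem_filter, Finset.mem_product, hI, mem_invs] at hm
      simp only [Prod.mk.injEq] at he
      obtain ⟨rfl, rfl⟩ := he
      simp only [Finset.coe_filter, Finset.mem_univ, true_and, Set.mem_setOf_eq]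
      refine (inv_pairs h hcC hc1).1 ⟨?_, ?_⟩
      · rw [← hm.1.2]
        simpa using (MulAut.conj gq⁻¹).orderOf_eq aq
      · rw [← hm.2, show gq⁻¹ * aq * gq * cq = gq⁻¹ * (aq * (gq * cq * gq⁻¹)) * gq by group]
        simpa using (MulAut.conj gq⁻¹).orderOf_eq (aq * (gq * cq * gq⁻¹))
    · intro a ha
      obtain ⟨h1, h2⟩ := (inv_pairs h hcC hc1).2 (by simpa using ha)
      simp only [hQ, hI, Finset.coe_filter, Finset.mem_filter, Finset.mem_product, mem_invs,
        Set.mem_setOf_eq, and_true, Finset.mem_univ, true_and]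
      refine ⟨⟨hc, by rw [← h1]; exact (MulAut.conj g).orderOf_eq a⟩, ?_⟩
      rw [show g * a * g⁻¹ * (g * c * g⁻¹) = g * (a * c) * g⁻¹ by group, ← h2]
      exact (MulAut.conj g).orderOf_eq (a * c)
    · rintro q hq
      obtain ⟨-, hq1⟩ : q ∈ Q ∧ q.1 = (g, c) := by simpa using hq
      obtain ⟨⟨gq, cq⟩, aq⟩ := q
      simp only [Prod.mk.injEq] at hq1 ⊢
      exact ⟨⟨hq1.1.symm, hq1.2.symm⟩, by group⟩
    · intro a _; group
  have e2 : Q.card = ((I ×ˢ I).filter fun p => p.1 ≠ p.2).card * (4 * n) := by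
    rw [Finset.card_eq_sum_card_fiberwise (s := Q) (t := (I ×ˢ I).filter fun p => p.1 ≠ p.2)
      (f := fun q => (q.2, q.2 * (q.1.1 * q.1.2 * q.1.1⁻¹))) (fun q hq => by
        simp only [hQ, hD, Finset.coe_filter, Finset.mem_filter, Finset.mem_product, Set.mem_setOf_eq] at hq ⊢
        refine ⟨⟨hq.1.2, hq.2⟩, fun e => hq.1.1.2.2.2 ?_⟩
        exact conj_eq_one_iff.1 (mul_eq_left.1 e.symm))]
    rw [Finset.sum_congr rfl fun p hp => ?_, Finset.sum_const, smul_eq_mul]
    obtain ⟨a, b⟩ := p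
    simp only [Finset.mem_filter, Finset.mem_product, hI, mem_invs] at hp
    obtain ⟨⟨ha, hb⟩, hne⟩ := hp
    obtain ⟨g₀, c₀, hc₀, hc₀1, he⟩ := hcov a b ha hb hne
    have haa : a * a = 1 := by rw [← pow_two, ← ha, pow_orderOf_eq_one]
    have hab : a * (g₀ * c₀ * g₀⁻¹) = b := by rw [he, ← mul_assoc, haa, one_mul]
    rw [← h.cardN, Nat.card_eq_fintype_card, Fintype.card_subtype]
    refine Finset.card_nbij' (fun q => g₀⁻¹ * q.1.1) (fun m => ((g₀ * m, m⁻¹ * c₀ * m), a)) ?_ ?_ ?_ ?_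
    · intro q hq
      obtain ⟨⟨g, c⟩, a'⟩ := q
      simp only [hQ, hD, Finset.coe_filter, Finset.mem_filter, Finset.mem_product, Prod.mk.injEq,
        Set.mem_setOf_eq] at hq
      obtain ⟨⟨⟨⟨-, -, hcC, hc1⟩, -⟩, -⟩, rfl, hq2⟩ := hq
      simp only [Finset.coe_filter, Finset.mem_univ, true_and, Set.mem_setOf_eq]
      refine h.ti _ c hcC hc1 ?_
      have : g * c * g⁻¹ = g₀ * c₀ * g₀⁻¹ := mul_left_cancel (hq2.trans hab.symm)
      rw [show g₀⁻¹ * g * c * (g₀⁻¹ * g)⁻¹ = g₀⁻¹ * (g * c * g⁻¹) * g₀ by group, this]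
      simpa [mul_assoc] using hc₀
    · intro m hm
      have hm : m ∈ normalizer (C : Set G) := by simpa using hm
      simp only [hQ, hD, hI, Finset.coe_filter, Finset.mem_filter, Finset.mem_product, mem_invs,
        Prod.mk.injEq, Set.mem_setOf_eq, Finset.mem_univ, true_and]
      have e : g₀ * m * (m⁻¹ * c₀ * m) * (g₀ * m)⁻¹ = g₀ * c₀ * g₀⁻¹ := by group
      rw [e, hab]
      refine ⟨⟨⟨⟨(mem_normalizer_iff''.1 hm c₀).1 hc₀, fun e1 => hc₀1 ?_⟩, ha⟩, hb⟩, rfl⟩
      rw [show c₀ = m * (m⁻¹ * c₀ * m) * m⁻¹ by group, e1]; group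
    · intro q hq
      obtain ⟨⟨g, c⟩, a'⟩ := q
      simp only [hQ, Finset.coe_filter, Finset.mem_filter, Prod.mk.injEq, Set.mem_setOf_eq] at hq
      obtain ⟨-, rfl, hq2⟩ := hq
      have : g * c * g⁻¹ = g₀ * c₀ * g₀⁻¹ := mul_left_cancel (hq2.trans hab.symm)
      simp only [Prod.mk.injEq, and_true]
      refine ⟨by group, ?_⟩
      rw [show (g₀⁻¹ * g)⁻¹ * c₀ * (g₀⁻¹ * g) = g⁻¹ * (g₀ * c₀ * g₀⁻¹) * g by group, ← this]; group
    · intro m _; group
  have hT : ((I ×ˢ I).filter fun p => p.1 ≠ p.2).card = I.card * I.card - I.card := by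
    rw [show ((I ×ˢ I).filter fun p => p.1 ≠ p.2) = I.offDiag by ext ⟨a, b⟩; simp [and_assoc],
      Finset.offDiag_card]
  rw [e1, hT, ← hIG] at e2
  have hn : 0 < n := h.odd.pos
  have hIpos : 0 < I.card := Finset.card_pos.2 ⟨t, mem_invs.2 h.t_ord⟩
  have e3 : (2 * n - 1) * (2 * n) = I.card - 1 := by
    have : I.card * ((2 * n - 1) * (2 * n)) * (4 * n) = I.card * (I.card - 1) * (4 * n) := by
      rw [Nat.mul_sub_one, ← e2]; ring
    exact Nat.eq_of_mul_eq_mul_left hIpos (Nat.eq_of_mul_eq_mul_right (by omega) this)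
  rw [← hIG, show I.card = (2 * n - 1) * (2 * n) + 1 by omega]
  ring

/-- All products of two distinct involutions are covered. -/
theorem covered_of_hyp [hp : Fact (Nat.Prime 3)] {P : Sylow 3 G} (hP : Hyp 3 P)
    (h : Setup (centralizer (P : Set G)) t u (Nat.card P)) :
    Covered (centralizer (P : Set G)) := by
  intro a b ha hb hne
  have hone := h.t_ord
  set n := Nat.card P with hn
  set x := a * b with hx
  have haa : a * a = 1 := by rw [← pow_two, ← ha, pow_orderOf_eq_one]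
  have hbb : b * b = 1 := by rw [← pow_two, ← hb, pow_orderOf_eq_one]
  have hx1 : x ≠ 1 := fun e => hne (by
    rw [hx, mul_eq_one_iff_eq_inv, inv_eq_of_mul_eq_one_right hbb] at e; exact e)
  have hai : a⁻¹ = a := inv_eq_of_mul_eq_one_right haa
  have haN : a ∈ normalizer (zpowers x : Set G) := by
    have hax : a * x * a⁻¹ = x⁻¹ := by
      rw [hx, hai, ← mul_assoc a a b, haa, one_mul, mul_inv_rev, hai,
        inv_eq_of_mul_eq_one_right hbb]
    refine mem_normalizer_iff.2 fun y => ?_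
    have hz : ∀ i : ℤ, a * x ^ i * a⁻¹ = x ^ (-i) := fun i => by
      rw [← conj_zpow, hax, inv_zpow, zpow_neg]
    constructor
    · rintro ⟨i, rfl⟩; exact ⟨-i, (hz i).symm⟩
    · rintro ⟨i, hi⟩
      exact ⟨-i, mul_left_cancel (mul_right_cancel
        (show a * x ^ (-i) * a⁻¹ = a * y * a⁻¹ by rw [hz, neg_neg]; exact hi))⟩
  -- the dihedral group is proper
  set H := zpowers x ⊔ zpowers a with hH
  have hHtop : H ≠ ⊤ := by
    intro e
    have hle : H ≤ normalizer (zpowers x : Set G) :=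
      sup_le le_normalizer (zpowers_le.2 haN)
    rw [e, top_le_iff, normalizer_eq_top_iff] at hle
    have := hP.simple
    obtain ⟨a', b', hab⟩ := hP.nonab
    rcases hle.eq_bot_or_eq_top with e' | e'
    · exact hx1 (zpowers_eq_bot.1 e')
    · obtain ⟨i, hi⟩ := mem_zpowers_iff.1 (e' ▸ mem_top a')
      obtain ⟨j, hj⟩ := mem_zpowers_iff.1 (e' ▸ mem_top b')
      exact hab (by rw [← hi, ← hj]; exact Commute.zpow_zpow_self x i j)
  have hHdvd : Nat.card H ∣ 4 * n := hP.even_dvd H hHtop (by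
    rw [← ha, ← Nat.card_zpowers]; exact Subgroup.card_dvd_of_le le_sup_right)
  have hord : x ^ (4 * n) = 1 := by
    obtain ⟨k, hk⟩ := hHdvd
    rw [hk, pow_mul]
    have := congrArg Subtype.val (pow_card_eq_one' (x := (⟨x, mem_sup_left (mem_zpowers x)⟩ : H)))
    rw [SubgroupClass.coe_pow, OneMemClass.coe_one] at this
    rw [this, one_pow]
  have hord2 : (x ^ n) ^ 2 = 1 := no_four hP (by rw [← pow_mul, mul_comm, hord])
  haveI : Fact (Nat.Prime 2) := ⟨Nat.prime_two⟩
  -- conjugate into `C`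
  by_cases hxn : x ^ n = 1
  · obtain ⟨k, hk⟩ := IsPGroup.iff_card.1 P.2
    obtain ⟨j, -, hj⟩ := (Nat.dvd_prime_pow hp.out).1
      (show orderOf x ∣ 3 ^ k from orderOf_dvd_of_pow_eq_one (hk ▸ hxn))
    obtain ⟨Q, hQ⟩ := (IsPGroup.of_card (p := 3) (n := j) (G := zpowers x)
      (by rw [Nat.card_zpowers, hj])).exists_le_sylow
    obtain ⟨g, hg⟩ := MulAction.exists_smul_eq G P Q
    have hxQ : x ∈ ((g • P : Sylow 3 G) : Subgroup G) := hg ▸ hQ (mem_zpowers x)
    rw [Sylow.smul_def, Sylow.pointwise_smul_def] at hxQ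
    obtain ⟨c, hc, hce⟩ := hxQ
    refine ⟨g, c, mem_centralizer_iff.2 fun y hy => hP.comm y hy c hc, ?_, hce⟩
    rintro rfl
    exact hx1 (by simpa using hce.symm)
  · obtain ⟨g, hg⟩ := isConj_iff.1 (h.conj_t (x ^ n) (orderOf_eq_prime hord2 hxn))
    set c := g⁻¹ * x * g with hc
    have hcn : c ^ n = t := by
      have := conj_pow (i := n) (a := g⁻¹) (b := x)
      rw [inv_inv] at this
      rw [hc, this, ← hg]; group
    have hcN : c ∈ normalizer (centralizer (P : Set G) : Set G) := by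
      rw [← h.cent_t, mem_centralizer_singleton_iff, ← hcn]
      exact (Commute.self_pow c n)
    refine ⟨g, c, ?_, fun e => hxn ?_, by rw [hc]; group⟩
    · by_contra hcC
      have h2 : c ^ 2 = 1 := by
        rw [← h.notC c hcN hcC, pow_orderOf_eq_one]
      obtain ⟨m, hm⟩ := h.odd
      have : c = t := by
        rw [← hcn, hm, pow_succ, pow_mul, h2, one_pow, one_mul]
      exact hcC (this ▸ h.t_mem)
    · rw [e, one_pow] at hcn
      rw [← hcn] at hone
      simp at hone

end Cfsg.Agent.GStructB.AbelianSylowThree
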