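import Mathlib
import Cfsg.Agent.GStructB.AbelianSylowThree.Count
import Cfsg.Agent.Lib.SmallSimple.Exceptional
import Cfsg.Agent.Lib.Characters.Counting

/-!
Exceptional characters attached to the TI subgroup `C`, and the contradiction.
-/

set_option linter.style.haveILetI false

namespace Cfsg.Agent.GStructB.AbelianSylowThree

open Cfsg.Agent.Characters Cfsg.Agent.OddChar
open Cfsg.Agent.SmallSimple.Exceptional (A a conjDual)
open scoped ComplexConjugate

universe u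

variable {G : Type u} [Group G] [Fintype G] {C : Subgroup G} {t u : G} {n : ℕ}

theorem conj_inv_of_notC (h : Setup C t u n) {m y : G} (hm : m ∈ Subgroup.normalizer (C : Set G))
    (hmC : m ∉ C) (hy : y ∈ C) : m⁻¹ * y * m = y⁻¹ := by
  have hmy : m * y ∉ C := fun e => hmC (by simpa using mul_mem e (inv_mem hy))
  have h1 : m * m = 1 := by rw [← pow_two, ← h.notC m hm hmC, pow_orderOf_eq_one]
  have h2 : m * y * (m * y) = 1 := by
    rw [← pow_two, ← h.notC _ (mul_mem hm (Subgroup.le_normalizer hy)) hmy, pow_orderOf_eq_one]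
  rw [inv_eq_of_mul_eq_one_right h1]
  exact eq_inv_of_mul_eq_one_left (by rw [← h2]; group)

theorem conjDual_mem (h : Setup C t u n) (φ : C →* ℂˣ) (m : Subgroup.normalizer (C : Set G))
    (hm : (m : G) ∈ C) : conjDual C m φ = φ := by
  refine MonoidHom.ext fun y => ?_
  show φ (Induce.conjHom C m m.2 y) = φ y
  refine congrArg φ (Subtype.ext ?_)
  rw [Induce.conjHom_coe, mul_assoc, h.comm y y.2 m hm, inv_mul_cancel_left]

theorem conjDual_notMem (h : Setup C t u n) (φ : C →* ℂˣ) (m : Subgroup.normalizer (C : Set G))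
    (hm : (m : G) ∉ C) : conjDual C m φ = φ⁻¹ := by
  refine MonoidHom.ext fun y => ?_
  show φ (Induce.conjHom C m m.2 y) = (φ y)⁻¹
  rw [← map_inv]
  refine congrArg φ (Subtype.ext ?_)
  rw [Induce.conjHom_coe, conj_inv_of_notC h m.2 hm y.2]
  rfl

theorem dual_inv_inv (φ : C →* ℂˣ) : φ⁻¹⁻¹ = φ := MonoidHom.ext fun y => inv_inv _

theorem dual_inv_one : (1 : C →* ℂˣ)⁻¹ = 1 := MonoidHom.ext fun y => inv_one

theorem A_inv (h : Setup C t u n) (φ : C →* ℂˣ) : A C φ⁻¹ = A C φ := by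
  classical
  obtain ⟨m, hm⟩ : ∃ m : G, m ∈ Subgroup.normalizer (C : Set G) ∧ m ∉ C := by
    have h1 := card_notC h
    obtain ⟨m, hm⟩ := Finset.card_pos.1 (h1.symm ▸ Nat.mul_pos two_pos h.odd.pos)
    exact ⟨m, (Finset.mem_filter.1 hm).2⟩
  rw [← conjDual_notMem h φ ⟨m, hm.1⟩ hm.2, SmallSimple.Exceptional.A_conjDual]

theorem conjDual_ne_one' (h : Setup C t u n) {φ : C →* ℂˣ} (hφ : φ ≠ 1)
    (m : Subgroup.normalizer (C : Set G)) : conjDual C m φ ≠ 1 := by
  by_cases hm : (m : G) ∈ C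
  · rwa [conjDual_mem h φ m hm]
  · rw [conjDual_notMem h φ m hm]
    exact fun e => hφ (MonoidHom.ext fun y => inv_eq_one.1 (DFunLike.congr_fun e y))

theorem inner_A (h : Setup C t u n) [DecidableEq (C →* ℂˣ)] {φ ψ : C →* ℂˣ} (hφ : φ ≠ 1)
    (hψ : ψ ≠ 1) :
    Cfsg.classInner (A C φ) (A C ψ) =
      2 + (if φ = ψ then 1 else 0) + (if φ⁻¹ = ψ then 1 else 0) := by
  classical
  haveI := Fintype.ofFinite C
  haveI := Fintype.ofFinite (Subgroup.normalizer (C : Set G))
  have hres : ∀ y : C, Cfsg.indFun C (fun y => 1 - (φ y : ℂ)) y = (Nat.card C : ℂ)⁻¹ *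
      ∑ m : Subgroup.normalizer (C : Set G), (1 - (conjDual C m φ y : ℂ)) := by
    intro y
    rcases eq_or_ne (y : G) 1 with hy | hy
    · obtain rfl : y = 1 := Subtype.ext hy
      simp [indFun_one]
    · refine Induce.indFun_apply_of_ti C _ y fun x hx _ => ?_
      exact inv_mem_iff.1 (h.ti x⁻¹ y y.2 hy (by simpa using hx))
  rw [A, A, frobenius_reciprocity' C _ (indFun_isClassFunction _ _)]
  have hres' : (fun y : C => Cfsg.indFun C (fun y => 1 - (φ y : ℂ)) y) = (Nat.card C : ℂ)⁻¹ •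
      ∑ m : Subgroup.normalizer (C : Set G), ((fun _ => 1) - fun y => (conjDual C m φ y : ℂ)) := by
    funext y
    rw [hres y]
    simp [Finset.sum_apply]
  rw [hres', classInner_smul_left, classInner_sum_left]
  have hterm : ∀ m : Subgroup.normalizer (C : Set G),
      Cfsg.classInner ((fun _ => (1 : ℂ)) - fun y => (conjDual C m φ y : ℂ))
        (fun y : C => 1 - (ψ y : ℂ)) =
      1 + if (m : G) ∈ C then (if φ = ψ then 1 else 0) else (if φ⁻¹ = ψ then 1 else 0) := by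
    intro m
    rw [show (fun y : C => 1 - (ψ y : ℂ)) = (fun _ => 1) - fun y => (ψ y : ℂ) from rfl,
      classInner_sub_left, classInner_sub_right, classInner_sub_right,
      SmallSimple.Exceptional.inner_const_linear, SmallSimple.Exceptional.inner_linear_const,
      SmallSimple.Exceptional.inner_linear, if_neg hψ, if_neg (conjDual_ne_one' h hφ m),
      classInner_isIrr_self isIrrCharacter_one]
    by_cases hm : (m : G) ∈ C
    · rw [if_pos hm, conjDual_mem h φ m hm]; ring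
    · rw [if_neg hm, conjDual_notMem h φ m hm]; ring
  rw [Finset.sum_congr rfl fun m _ => hterm m, Finset.sum_add_distrib, Finset.sum_ite,
    Finset.sum_const, Finset.sum_const, Finset.sum_const, Finset.card_univ,
    ← Nat.card_eq_fintype_card, h.cardN, h.cardC]
  have hin : (Finset.univ.filter fun m : Subgroup.normalizer (C : Set G) => (m : G) ∈ C).card = 2 * n := by
    rw [← Fintype.card_subtype, ← Nat.card_eq_fintype_card, ← h.cardC]
    exact Nat.card_congr (Subgroup.subgroupOfEquivOfLe (Subgroup.le_normalizer (H := C))).toEquiv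
  have hout : (Finset.univ.filter fun m : Subgroup.normalizer (C : Set G) => ¬ (m : G) ∈ C).card = 2 * n := by
    have h1 := Finset.card_filter_add_card_filter_not (s := (Finset.univ : Finset (Subgroup.normalizer (C : Set G))))
      (fun m => (m : G) ∈ C)
    rw [hin, Finset.card_univ, ← Nat.card_eq_fintype_card, h.cardN] at h1
    omega
  rw [hin, hout]
  have hn0 : (n : ℂ) ≠ 0 := Nat.cast_ne_zero.2 h.odd.pos.ne'
  simp only [nsmul_eq_mul]
  push_cast
  field_simp
  ring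

theorem exists_mult (h : Setup C t u n) (χ : Cfsg.IrrCharacter G) [Fintype (C →* ℂˣ)] :
    ∃ m : (C →* ℂˣ) → ℤ, (∀ y : C, (χ : G → ℂ) y = ∑ φ, (m φ : ℂ) * (φ y : ℂ)) ∧
      ∀ φ, a C φ χ = m 1 - m φ := by
  classical
  have hcomm : ∀ x y : C, x * y = y * x := fun x y => Subtype.ext (h.comm x x.2 y y.2)
  haveI := Fintype.ofFinite C
  haveI := Fintype.ofFinite (Cfsg.IrrCharacter C)
  set θ : C → ℂ := fun y => (χ : G → ℂ) y
  have hgen : Cfsg.IsGeneralizedCharacter C θ :=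
    isGen_restrict C (isGen_of_isCharacter (irr_isCharacter χ))
  have hex : ∀ φ : C →* ℂˣ, ∃ z : ℤ, Cfsg.classInner θ (fun y => (φ y : ℂ)) = (z : ℂ) := fun φ =>
    classInner_gen_int hgen (isGen_of_isCharacter (isCharacter_linear φ))
  choose m hm using hex
  refine ⟨m, fun y => ?_, fun φ => ?_⟩
  · have hθ := classFun_eq_sum (f := θ) (isGen_isClassFunction hgen)
    let e : Cfsg.IrrCharacter C ≃ (C →* ℂˣ) :=
      (Equiv.subtypeUnivEquiv fun χ : Cfsg.IrrCharacter C =>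
        irr_degree_one_of_comm hcomm χ.2).symm.trans linearEquiv
    calc θ y = ∑ ψ : Cfsg.IrrCharacter C, Cfsg.classInner θ (ψ : C → ℂ) * (ψ : C → ℂ) y := by
          conv_lhs => rw [hθ]
          simp [Finset.sum_apply]
      _ = _ := Fintype.sum_equiv e _ _ fun ψ => by
          have hψ : (ψ : C → ℂ) = fun y => ((e ψ) y : ℂ) := by
            obtain ⟨φ, rfl⟩ := e.symm.surjective ψ
            rw [Equiv.apply_symm_apply]; rfl
          rw [hψ, hm]
  · refine Lattice.coeff_eq_of_inner ?_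
    rw [A, frobenius_reciprocity C _ (irr_isClassFunction χ),
      show (fun y : C => 1 - (φ y : ℂ)) = (fun _ => 1) - fun y => (φ y : ℂ) from rfl,
      classInner_sub_left]
    rw [classInner_conj_symm θ (fun y => (φ y : ℂ)), hm, map_intCast,
      show (fun _ : C => (1 : ℂ)) = fun y => (((1 : C →* ℂˣ) y : ℂˣ) : ℂ) from by simp,
      classInner_conj_symm θ, hm, map_intCast]
    push_cast
    rfl

theorem card_dual (h : Setup C t u n) : Nat.card (C →* ℂˣ) = 2 * n := by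
  haveI := Fintype.ofFinite C
  have : commutator C = ⊥ := by
    rw [commutator_def, Subgroup.commutator_eq_bot_iff_le_centralizer]
    intro x _
    exact fun y _ => Subtype.ext (h.comm y y.2 x x.2)
  rw [card_linear_hom, this, Subgroup.index_bot, h.cardC]

/-- The representatives of the pairs `{φ, φ⁻¹}` of moved linear characters. -/
theorem exists_split (h : Setup C t u n) [Fintype (C →* ℂˣ)] :
    ∃ (φ₀ : C →* ℂˣ) (R : Finset (C →* ℂˣ)), φ₀ ≠ 1 ∧ φ₀⁻¹ = φ₀ ∧
      ((φ₀ ⟨t, h.t_mem⟩ : ℂˣ) : ℂ) = -1 ∧ R.card = n - 1 ∧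
      (∀ φ ∈ R, φ ≠ 1 ∧ φ ≠ φ₀ ∧ φ⁻¹ ∉ R ∧ (((φ ⟨t, h.t_mem⟩ : ℂˣ) : ℂ) = 1 ∨
        ((φ ⟨t, h.t_mem⟩ : ℂˣ) : ℂ) = -1)) ∧
      (∀ F : (C →* ℂˣ) → ℂ, ∑ φ, F φ = F 1 + F φ₀ + ∑ φ ∈ R, (F φ + F φ⁻¹)) ∧
      ∑ φ : C →* ℂˣ, ((φ ⟨t, h.t_mem⟩ : ℂˣ) : ℂ) = 0 := by
  classical
  set tC : C := ⟨t, h.t_mem⟩ with htC
  have htt : tC * tC = 1 := Subtype.ext (by
    show t * t = 1
    rw [← pow_two, ← h.t_ord, pow_orderOf_eq_one])
  have hpm : ∀ φ : C →* ℂˣ, ((φ tC : ℂˣ) : ℂ) = 1 ∨ ((φ tC : ℂˣ) : ℂ) = -1 := fun φ => by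
    apply mul_self_eq_one_iff.1
    rw [← Units.val_mul, ← map_mul, htt, map_one, Units.val_one]
  -- a character nontrivial at `t`
  obtain ⟨φ₁, hφ₁⟩ : ∃ φ : C →* ℂˣ, φ tC ≠ 1 := by
    haveI := Fintype.ofFinite C
    have hne : tC ≠ 1 := fun e => by
      have := h.t_ord
      rw [show t = 1 from congrArg Subtype.val e] at this
      simp at this
    by_contra hno
    push Not at hno
    letI : CommGroup C :=
      { (inferInstance : Group C) with mul_comm := fun x y => Subtype.ext (h.comm x x.2 y y.2) }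
    haveI : NeZero (Monoid.exponent C) := ⟨Monoid.exponent_ne_zero_of_finite⟩
    haveI : NeZero (Monoid.exponent C : ℂ) := ⟨Nat.cast_ne_zero.2 Monoid.exponent_ne_zero_of_finite⟩
    obtain ⟨φ, hφ⟩ := CommGroup.exists_apply_ne_one_of_hasEnoughRootsOfUnity C ℂ hne
    exact hφ (hno φ)
  set φ₀ := φ₁ ^ n with hφ₀
  have hsq : φ₀ * φ₀ = 1 := MonoidHom.ext fun y => by
    show φ₁ y ^ n * φ₁ y ^ n = 1
    rw [← pow_add, ← two_mul, ← map_pow]
    have : y ^ (2 * n) = 1 := by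
      rw [← h.cardC]; exact pow_card_eq_one'
    rw [this, map_one]
  have hinv₀ : φ₀⁻¹ = φ₀ := MonoidHom.ext fun y =>
    inv_eq_of_mul_eq_one_right (DFunLike.congr_fun hsq y)
  have h₀t : ((φ₀ tC : ℂˣ) : ℂ) = -1 := by
    show ((φ₁ tC ^ n : ℂˣ) : ℂ) = -1
    rw [Units.val_pow_eq_pow_val, (hpm φ₁).resolve_left (fun e => hφ₁ (Units.ext e))]
    exact h.odd.neg_one_pow
  have h₀ne : φ₀ ≠ 1 := fun e => by
    rw [e, MonoidHom.one_apply, Units.val_one] at h₀t
    norm_num at h₀t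
  have hfix : ∀ φ : C →* ℂˣ, φ⁻¹ = φ → φ = 1 ∨ φ = φ₀ := by
    intro φ hφ
    have hval : ∀ ψ : C →* ℂˣ, ψ⁻¹ = ψ → ∀ y : C, y ^ n = 1 → ψ y = 1 := by
      intro ψ hψ y hy
      have h2 : ψ y ^ 2 = 1 := by
        rw [pow_two]
        nth_rw 1 [← hψ]
        exact inv_mul_cancel _
      have h3 : ψ y ^ n = 1 := by rw [← map_pow, hy, map_one]
      obtain ⟨m, hm⟩ := h.odd
      rwa [hm, pow_succ, pow_mul, h2, one_pow, one_mul] at h3
    have hext : ∀ ψ ψ' : C →* ℂˣ, ψ⁻¹ = ψ → ψ'⁻¹ = ψ' → ψ tC = ψ' tC → ψ = ψ' := by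
      intro ψ ψ' hψ hψ' ht
      refine MonoidHom.ext fun y => ?_
      rcases h.gen y y.2 with e | e
      · rw [hval ψ hψ y (Subtype.ext e), hval ψ' hψ' y (Subtype.ext e)]
      · have h1 : ψ (y * tC) = ψ' (y * tC) := by
          rw [hval ψ hψ (y * tC) (Subtype.ext e), hval ψ' hψ' (y * tC) (Subtype.ext e)]
        rwa [map_mul, map_mul, ht, mul_left_inj] at h1
    rcases hpm φ with e | e
    · exact Or.inl (hext φ 1 hφ dual_inv_one (Units.ext (by simpa using e)))
    · exact Or.inr (hext φ φ₀ hφ hinv₀ (Units.ext (by rw [e, h₀t])))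
  let e := Fintype.equivFin (C →* ℂˣ)
  set R := Finset.univ.filter fun φ : C →* ℂˣ => e φ < e φ⁻¹ with hR
  have hsum : ∀ F : (C →* ℂˣ) → ℂ, ∑ φ, F φ = F 1 + F φ₀ + ∑ φ ∈ R, (F φ + F φ⁻¹) := by
    intro F
    rw [← Finset.sum_filter_add_sum_filter_not Finset.univ (fun φ => φ⁻¹ = φ) F]
    have h1 : (Finset.univ.filter fun φ : C →* ℂˣ => φ⁻¹ = φ) = {1, φ₀} := by
      ext φ
      simp only [Finset.mem_filter, Finset.mem_univ, true_and, Finset.mem_insert, Finset.mem_singleton]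
      exact ⟨hfix φ, by rintro (rfl | rfl); exacts [dual_inv_one, hinv₀]⟩
    rw [h1, Finset.sum_pair (Ne.symm h₀ne), Finset.sum_add_distrib]
    congr 1
    rw [← Finset.sum_filter_add_sum_filter_not (Finset.univ.filter fun φ : C →* ℂˣ => ¬ φ⁻¹ = φ)
      (fun φ => e φ < e φ⁻¹) F, Finset.filter_filter, Finset.filter_filter]
    congr 1
    · refine Finset.sum_congr (Finset.filter_congr fun φ _ => and_iff_right_of_imp fun hlt heq => ?_)
        fun _ _ => rfl
      rw [heq] at hlt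
      exact lt_irrefl _ hlt
    · refine Finset.sum_nbij' (fun φ => φ⁻¹) (fun φ => φ⁻¹) ?_ ?_ (fun φ _ => dual_inv_inv φ)
        (fun φ _ => dual_inv_inv φ) (fun φ _ => by rw [dual_inv_inv])
      · intro φ hφ
        simp only [Finset.mem_coe, Finset.mem_filter, Finset.mem_univ, true_and] at hφ
        simp only [hR, Finset.mem_coe, Finset.mem_filter, Finset.mem_univ, true_and, dual_inv_inv]
        exact lt_of_le_of_ne (not_lt.1 hφ.2) fun e' => hφ.1 (e.injective e')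
      · intro φ hφ
        simp only [hR, Finset.mem_coe, Finset.mem_filter, Finset.mem_univ, true_and] at hφ
        simp only [Finset.mem_coe, Finset.mem_filter, Finset.mem_univ, true_and, dual_inv_inv]
        exact ⟨fun e' => lt_irrefl _ (e'.symm ▸ hφ), not_lt.2 hφ.le⟩
  refine ⟨φ₀, R, h₀ne, hinv₀, h₀t, ?_, fun φ hφ => ?_, hsum, ?_⟩
  · have h1 := hsum fun _ => 1
    rw [Finset.sum_const, Finset.card_univ, ← Nat.card_eq_fintype_card, card_dual h,
      Finset.sum_const, nsmul_eq_mul, nsmul_eq_mul] at h1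
    have h2 : 2 * n = 2 + 2 * R.card := by
      have h3 : ((2 * n : ℕ) : ℂ) = ((2 + 2 * R.card : ℕ) : ℂ) := by
        push_cast at h1 ⊢; linear_combination h1
      exact_mod_cast h3
    omega
  · have hlt : e φ < e φ⁻¹ := (Finset.mem_filter.1 hφ).2
    refine ⟨?_, ?_, fun h' => ?_, hpm φ⟩
    · rintro rfl; rw [dual_inv_one] at hlt; exact lt_irrefl _ hlt
    · rintro rfl; rw [hinv₀] at hlt; exact lt_irrefl _ hlt
    · have hlt' := (Finset.mem_filter.1 h').2
      rw [dual_inv_inv] at hlt'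
      exact lt_asymm hlt hlt'
  · set S := ∑ φ : C →* ℂˣ, ((φ tC : ℂˣ) : ℂ) with hS
    have h1 : S = -S := by
      rw [hS, ← Finset.sum_neg_distrib]
      refine Fintype.sum_equiv (Equiv.mulLeft φ₀) _ _ fun φ => ?_
      show _ = -(((φ₀ * φ) tC : ℂˣ) : ℂ)
      rw [MonoidHom.mul_apply, Units.val_mul, h₀t, neg_one_mul, neg_neg]
    linear_combination h1 / 2

/-- The class equation at `t`. -/
theorem sum_cube (h : Setup C t u n) [Fintype (Cfsg.IrrCharacter G)] :
    (Fintype.card G : ℂ) * ∑ χ : Cfsg.IrrCharacter G,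
        (χ : G → ℂ) t * (χ : G → ℂ) t * conj ((χ : G → ℂ) t) / (χ : G → ℂ) 1 =
      (32 : ℂ) * (n : ℂ) ^ 3 := by
  classical
  have ht2 : orderOf t = 2 := h.t_ord
  have hiff : ∀ x : G, IsConj (t * (x * t * x⁻¹)) t ↔
      (x * t * x⁻¹ ∈ Subgroup.normalizer (C : Set G) ∧ x * t * x⁻¹ ∉ C) := by
    intro x
    have hw : orderOf (x * t * x⁻¹) = 2 := by rw [← ht2]; exact (MulAut.conj x).orderOf_eq t
    set w := x * t * x⁻¹
    have hww : w * w = 1 := by rw [← pow_two, ← hw, pow_orderOf_eq_one]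
    have htt : t * t = 1 := by rw [← pow_two, ← ht2, pow_orderOf_eq_one]
    constructor
    · intro hc
      obtain ⟨g, hg⟩ := isConj_iff.1 hc.symm
      have ho : orderOf (t * w) = 2 := by rw [← hg, ← ht2]; exact (MulAut.conj g).orderOf_eq t
      have h1 : t * w * (t * w) = 1 := by rw [← pow_two, ← ho, pow_orderOf_eq_one]
      have hwt : w * t = t * w := by
        have h2 := eq_inv_of_mul_eq_one_left h1
        rw [mul_inv_rev, inv_eq_of_mul_eq_one_right hww, inv_eq_of_mul_eq_one_right htt] at h2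
        exact h2.symm
      refine ⟨h.cent_t ▸ Subgroup.mem_centralizer_singleton_iff.2 hwt, fun hwC => ?_⟩
      rw [h.inv_eq w hwC hw, htt, orderOf_one] at ho
      norm_num at ho
    · rintro ⟨hwN, hwC⟩
      refine (h.conj_t _ (h.notC _ (mul_mem (Subgroup.le_normalizer h.t_mem) hwN) fun e => hwC ?_)).symm
      have := mul_mem h.t_mem e
      rwa [← mul_assoc, htt, one_mul] at this
  have hcount : (Finset.univ.filter fun x : G => IsConj (t * (x * t * x⁻¹)) t).card = 2 * n * (4 * n) := by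
    rw [Finset.filter_congr fun x _ => hiff x]
    rw [Finset.card_eq_sum_card_fiberwise (f := fun x : G => x * t * x⁻¹)
      (t := Finset.univ.filter fun a : G => a ∈ Subgroup.normalizer (C : Set G) ∧ a ∉ C)
      (fun x hx => by simpa using hx)]
    rw [Finset.sum_congr rfl fun w hw => ?_, Finset.sum_const, card_notC h, smul_eq_mul]
    have hw' := (Finset.mem_filter.1 hw).2
    obtain ⟨g, hg⟩ := isConj_iff.1 (h.conj_t w (h.notC w hw'.1 hw'.2))
    rw [Finset.filter_filter, Finset.filter_congr (q := fun a : G => a * t * a⁻¹ = w)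
      fun a _ => and_iff_right_of_imp fun e => by rw [e]; exact hw']
    rw [fibre_conj g hg, h.cent_t, h.cardN]
  have key : ∑ x : G, ∑ χ : Cfsg.IrrCharacter G,
      (χ : G → ℂ) (t * (x * t * x⁻¹)) * conj ((χ : G → ℂ) t) = (32 : ℂ) * (n : ℂ) ^ 3 := by
    rw [Finset.sum_congr rfl fun x _ => second_orthogonality _ _]
    trans ∑ x ∈ Finset.univ.filter (fun x : G => IsConj (t * (x * t * x⁻¹)) t),
      (Nat.card (Subgroup.centralizer ({t} : Set G)) : ℂ)
    · rw [Finset.sum_filter]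
      refine Finset.sum_congr rfl fun x _ => ?_
      split_ifs <;> rfl
    rw [Finset.sum_const, hcount, h.cent_t, h.cardN, nsmul_eq_mul]
    push_cast
    ring
  rw [← key, Finset.sum_comm, Finset.mul_sum]
  refine Finset.sum_congr rfl fun χ _ => ?_
  rw [← Finset.sum_mul, sum_mul_conjugates χ.2 t t, Nat.card_eq_fintype_card]
  ring

/-- The combinatorics of the integral coefficient vectors. -/
theorem coeff_bounds {X ι : Type*} [Fintype X] [DecidableEq X] [Fintype ι] [DecidableEq ι] (hι : 4 ≤ Fintype.card ι)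
    (μ : ι → X) (hμ : Function.Injective μ) (x₀ : X) (ε : ℤ) (hε : ε = 1 ∨ ε = -1)
    (v : X → ℤ) (z : X → ℤ) (f : ι → X → ℤ)
    (hf : ∀ i χ, f i χ = v χ + ε * if μ i = χ then 1 else 0)
    (hf0 : ∀ i, f i x₀ = 1) (hz0 : z x₀ = 1)
    (hff : ∀ i, ∑ χ, f i χ ^ 2 = 3) (hfz : ∀ i, ∑ χ, f i χ * z χ = 2)
    (hzz : ∑ χ, z χ ^ 2 = 4) :
    (∀ i, μ i ≠ x₀ ∧ v (μ i) = 0 ∧ z (μ i) = 0) ∧
    ∑ χ ∈ Finset.univ.erase x₀ \ Finset.univ.image μ, z χ ^ 2 ≤ 3 ∧
    ∀ χ ∈ Finset.univ.erase x₀ \ Finset.univ.image μ,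
      z χ ^ 2 ≤ 1 ∧ (z χ ≠ 0 → z χ - 2 * v χ = 1 ∨ z χ - 2 * v χ = -1) := by
  have hne : ∀ i, μ i ≠ x₀ := by
    intro i hi
    obtain ⟨j, hj⟩ := Fintype.exists_ne_of_one_lt_card (by omega) i
    have h1 := hf0 i
    have h2 := hf0 j
    rw [hf, if_pos hi] at h1
    rw [hf, if_neg (fun e => hj (hμ (e.trans hi.symm)))] at h2
    rcases hε with rfl | rfl <;> omega
  have hv0 : v x₀ = 1 := by
    obtain ⟨i⟩ : Nonempty ι := Fintype.card_pos_iff.1 (by omega)
    have := hf0 i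
    rw [hf, if_neg (hne i)] at this
    omega
  have hε2 : ε * ε = 1 := by rcases hε with rfl | rfl <;> norm_num
  have hA : ∀ i, ∑ χ, v χ ^ 2 + 2 * (ε * v (μ i)) + 1 = 3 := by
    intro i
    rw [← hff i]
    simp only [hf, add_sq, Finset.sum_add_distrib]
    simp [mul_ite, ite_pow, hε2, pow_two, mul_comm, mul_assoc, mul_left_comm]
  have hB : ∀ i, ∑ χ, v χ * z χ + ε * z (μ i) = 2 := by
    intro i
    rw [← hfz i]
    simp only [hf, add_mul, Finset.sum_add_distrib]
    simp [mul_ite, ite_mul]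
  set O := Finset.univ.erase x₀ \ Finset.univ.image μ with hO
  have hsplit : ∀ F : X → ℤ, ∑ χ, F χ = F x₀ + ∑ i, F (μ i) + ∑ χ ∈ O, F χ := by
    intro F
    rw [← Finset.add_sum_erase _ _ (Finset.mem_univ x₀), add_assoc]
    congr 1
    rw [← Finset.sum_image (f := F) (g := μ) (s := Finset.univ) (fun a _ b _ h => hμ h),
      add_comm, hO, Finset.sum_sdiff]
    intro χ hχ
    obtain ⟨j, -, rfl⟩ := Finset.mem_image.1 hχ
    exact Finset.mem_erase.2 ⟨hne j, Finset.mem_univ _⟩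
  obtain ⟨i₀⟩ : Nonempty ι := Fintype.card_pos_iff.1 (by omega)
  set x := ε * v (μ i₀) with hx
  have hvi : ∀ i, v (μ i) = ε * x := by
    intro i
    have : ε * v (μ i) = x := by have := hA i; have := hA i₀; omega
    rw [← this, ← mul_assoc, hε2, one_mul]
  set y := ε * z (μ i₀) with hy
  have hzi : ∀ i, z (μ i) = ε * y := by
    intro i
    have : ε * z (μ i) = y := by have := hB i; have := hB i₀; omega
    rw [← this, ← mul_assoc, hε2, one_mul]
  have hk : (4 : ℤ) ≤ Fintype.card ι := by exact_mod_cast hι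
  have hOnn : ∀ F : X → ℤ, (∀ χ, 0 ≤ F χ) → 0 ≤ ∑ χ ∈ O, F χ := fun F hF =>
    Finset.sum_nonneg fun χ _ => hF χ
  have hV := hsplit (fun χ => v χ ^ 2)
  simp only [hvi, hv0, mul_pow, pow_two ε, hε2, one_mul, Finset.sum_const, Finset.card_univ,
    nsmul_eq_mul, one_pow] at hV
  have hx0 : x = 0 := by
    have h1 := hA i₀
    rw [← hx] at h1
    have h2 := hOnn (fun χ => v χ ^ 2) fun χ => sq_nonneg _
    by_contra hne0
    rcases lt_or_gt_of_ne hne0 with hlt | hgt <;> nlinarith [mul_le_mul_of_nonneg_right hk (sq_nonneg x)]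
  have hZ := hsplit (fun χ => z χ ^ 2)
  simp only [hzi, hz0, hzz, mul_pow, pow_two ε, hε2, one_mul, Finset.sum_const, Finset.card_univ,
    nsmul_eq_mul, one_pow] at hZ
  have hy0 : y = 0 := by
    have h2 := hOnn (fun χ => z χ ^ 2) fun χ => sq_nonneg _
    by_contra hne0
    have : 0 < y ^ 2 := by positivity
    nlinarith [mul_le_mul_of_nonneg_right hk (sq_nonneg y)]
  have hvO : ∑ χ ∈ O, v χ ^ 2 = 1 := by
    have h1 := hA i₀
    rw [← hx, hx0] at h1
    rw [hx0] at hV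
    simp only [ne_eq, OfNat.ofNat_ne_zero, not_false_eq_true, zero_pow, mul_zero] at hV
    linarith
  have hzO : ∑ χ ∈ O, z χ ^ 2 = 3 := by
    rw [hy0] at hZ
    simp only [ne_eq, OfNat.ofNat_ne_zero, not_false_eq_true, zero_pow, mul_zero] at hZ
    linarith
  have hvzO : ∑ χ ∈ O, v χ * z χ = 1 := by
    have h1 := hB i₀
    rw [← hy, hy0, hsplit (fun χ => v χ * z χ)] at h1
    simp only [hvi, hx0, hv0, hz0, mul_zero, zero_mul, Finset.sum_const_zero, one_mul] at h1
    linarith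
  refine ⟨fun i => ⟨hne i, by rw [hvi, hx0, mul_zero], by rw [hzi, hy0, mul_zero]⟩, hzO.le, ?_⟩
  obtain ⟨χ₁, hχ₁, hv₁⟩ : ∃ χ₁ ∈ O, v χ₁ ≠ 0 := by
    by_contra hno
    push Not at hno
    rw [Finset.sum_eq_zero fun χ hχ => by rw [hno χ hχ]; rfl] at hvO
    exact zero_ne_one hvO
  have hv₁' : v χ₁ ^ 2 = 1 := by
    have h1 := Finset.single_le_sum (f := fun χ => v χ ^ 2) (fun χ _ => sq_nonneg (v χ)) hχ₁
    have : 0 < v χ₁ ^ 2 := by positivity
    rw [hvO] at h1
    omega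
  have hother : ∀ χ ∈ O, χ ≠ χ₁ → v χ = 0 := by
    intro χ hχ hne'
    have h1 := Finset.add_le_sum (f := fun χ => v χ ^ 2) (fun χ _ => sq_nonneg (v χ)) hχ hχ₁ hne'
    rw [hvO, hv₁'] at h1
    exact pow_eq_zero_iff two_ne_zero |>.1 (le_antisymm (by linarith) (sq_nonneg _))
  have hzv : z χ₁ = v χ₁ := by
    rw [Finset.sum_eq_single χ₁ (fun χ hχ hne' => by rw [hother χ hχ hne', zero_mul])
      (fun h' => absurd hχ₁ h')] at hvzO
    calc z χ₁ = v χ₁ ^ 2 * z χ₁ := by rw [hv₁', one_mul]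
      _ = v χ₁ * (v χ₁ * z χ₁) := by ring
      _ = v χ₁ := by rw [hvzO, mul_one]
  intro χ hχ
  have hz3 : z χ ^ 2 ≤ 3 := hzO ▸ Finset.single_le_sum (f := fun χ => z χ ^ 2)
    (fun χ _ => sq_nonneg (z χ)) hχ
  have hzr : z χ = -1 ∨ z χ = 0 ∨ z χ = 1 := by
    have h1 : z χ ≤ 1 := by nlinarith
    have h2 : -1 ≤ z χ := by nlinarith
    omega
  refine ⟨by rcases hzr with e | e | e <;> rw [e] <;> norm_num, fun hz' => ?_⟩
  by_cases he : χ = χ₁
  · subst he
    omega
  · rw [hother χ hχ he]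
    omega

/-- No simple group has this configuration. -/
theorem false_of_setup [IsSimpleGroup G] (hG : ¬ IsMulCommutative G) (h : Setup C t u n)
    (hcov : Covered C) (hn9 : 9 ≤ n) : False := by
  classical
  haveI : Finite (C →* ℂˣ) := Nat.finite_of_card_ne_zero (by rw [card_dual h]; omega)
  haveI := Fintype.ofFinite (C →* ℂˣ)
  haveI := Fintype.ofFinite (Cfsg.IrrCharacter G)
  obtain ⟨φ₀, R, h₀ne, h₀inv, h₀t, hRcard, hR, hsum, hsum0⟩ := exists_split h
  have hRne : R.Nonempty := Finset.card_pos.1 (by omega)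
  obtain ⟨o₁, ho₁⟩ := hRne
  set o : R := ⟨o₁, ho₁⟩
  have hgen : ∀ φ, Cfsg.IsGeneralizedCharacter G (A C φ) := SmallSimple.Exceptional.A_isGen
  have hI : ∀ i j : R, Cfsg.classInner (A C i.1) (A C j.1) = 2 + if i = j then 1 else 0 := by
    intro i j
    rw [inner_A h (hR i i.2).1 (hR j j.2).1, if_neg (c := (i.1⁻¹ = j.1)) (fun e => (hR i i.2).2.2.1 (e ▸ j.2)),
      add_zero]
    congr 1
    exact if_congr Subtype.ext_iff.symm rfl rfl
  obtain ⟨ε, μ, hε, hμ, hd⟩ := Lattice.exists_differences o (fun i : R => A C i.1 - A C o.1)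
    (sub_self _) (fun i _ => isGen_sub (hgen _) (hgen _))
    (fun i _ => by rw [Pi.sub_apply, SmallSimple.Exceptional.A_one, SmallSimple.Exceptional.A_one, sub_zero])
    (fun i hi => by
      simp only [classInner_sub_left, classInner_sub_right, hI, if_true, if_neg hi, if_neg (Ne.symm hi)]
      ring)
    (fun i j hi hj hij => by
      simp only [classInner_sub_left, classInner_sub_right, hI, if_true, if_neg hi, if_neg (Ne.symm hj),
        if_neg hij]
      ring)
  let f : R → Cfsg.IrrCharacter G → ℤ := fun i χ => a C i.1 χ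
  let z : Cfsg.IrrCharacter G → ℤ := fun χ => a C φ₀ χ
  let v : Cfsg.IrrCharacter G → ℤ := fun χ => f o χ - ε * if μ o = χ then 1 else 0
  have hrel : ∀ i χ, f i χ = v χ + ε * if μ i = χ then 1 else 0 := by
    intro i χ
    have h1 := congrArg (fun θ : G → ℂ => Cfsg.classInner θ (χ : G → ℂ)) (hd i)
    simp only [classInner_sub_left, classInner_smul_left, classInner_irr,
      Lattice.coeff_spec (hgen _)] at h1
    have h' : ((f i χ : ℤ) : ℂ) - (f o χ : ℂ) =
        ((ε * ((if μ i = χ then 1 else 0) - (if μ o = χ then 1 else 0)) : ℤ) : ℂ) := by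
      push_cast; exact h1
    rw [← Int.cast_sub, Int.cast_inj] at h'
    simp only [v]
    linarith
  have htriv : ∀ φ : C →* ℂˣ, φ ≠ 1 → a C φ (trivIrr G) = 1 := fun φ hφ =>
    Lattice.coeff_eq_of_inner (by simpa using SmallSimple.Exceptional.inner_A_one hφ)
  obtain ⟨hμ0, hzO, hO⟩ := coeff_bounds (ι := R) (by rw [Fintype.card_coe, hRcard]; omega) μ hμ
    (trivIrr G) ε hε v z f hrel (fun i => htriv _ (hR i i.2).1) (htriv _ h₀ne)
    (fun i => Lattice.sum_sq_of_norm (hgen i.1) (n := 3) (by rw [hI, if_pos rfl]; norm_num))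
    (fun i => by
      have h1 := Lattice.inner_eq_sum (hgen i.1) (hgen φ₀)
      rw [inner_A h (hR i i.2).1 h₀ne, if_neg (hR i i.2).2.1, if_neg (fun e => (hR i i.2).2.1 (by
        rw [← h₀inv, ← e]; exact MonoidHom.ext fun y => (inv_inv _).symm))] at h1
      have h2 : ((2 : ℤ) : ℂ) = ((∑ χ, f i χ * z χ : ℤ) : ℂ) := by
        simp only [add_zero] at h1
        exact_mod_cast h1
      exact (Int.cast_inj.1 h2).symm)
    (Lattice.sum_sq_of_norm (hgen φ₀) (n := 4) (by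
      rw [inner_A h h₀ne h₀ne, h₀inv, if_pos rfl]; norm_num))
  set tC : C := ⟨t, h.t_mem⟩
  let r : R → ℂ := fun i => ((i.1 tC : ℂˣ) : ℂ)
  have hr : ∀ i, r i = 1 ∨ r i = -1 := fun i => (hR i i.2).2.2.2
  have hrinv : ∀ i : R, ((i.1⁻¹ tC : ℂˣ) : ℂ) = r i := fun i => by
    rw [MonoidHom.inv_apply, Units.val_inv_eq_inv_val]
    rcases hr i with e | e <;> simp only [r] at e ⊢ <;> rw [e] <;> norm_num
  have hrsum : ∑ i : R, r i = 0 := by
    have h1 := hsum fun φ => ((φ tC : ℂˣ) : ℂ)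
    rw [hsum0, MonoidHom.one_apply, Units.val_one, h₀t, ← Finset.sum_coe_sort R
      (fun φ => ((φ tC : ℂˣ) : ℂ) + ((φ⁻¹ tC : ℂˣ) : ℂ)),
      Finset.sum_congr rfl (g := fun i => r i + r i) fun i _ => by rw [hrinv],
      Finset.sum_add_distrib] at h1
    linear_combination -h1 / 2
  -- the values at `t`
  have hval : ∀ χ : Cfsg.IrrCharacter G, (χ : G → ℂ) t =
      (z χ : ℂ) - 2 * (ε : ℂ) * ∑ i : R, (if μ i = χ then r i else 0) := by
    intro χ
    obtain ⟨m, hm, ha⟩ := exists_mult h χ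
    have hma : ∀ φ, (m φ : ℂ) = (m 1 : ℂ) - (a C φ χ : ℂ) := fun φ => by rw [ha φ]; push_cast; ring
    rw [show t = (tC : G) from rfl, hm tC, Finset.sum_congr rfl fun φ _ => by rw [hma φ, sub_mul],
      Finset.sum_sub_distrib, ← Finset.mul_sum, hsum0, mul_zero, zero_sub,
      hsum fun φ => (a C φ χ : ℂ) * ((φ tC : ℂˣ) : ℂ), SmallSimple.Exceptional.a_one, h₀t,
      ← Finset.sum_coe_sort R (fun φ => (a C φ χ : ℂ) * ((φ tC : ℂˣ) : ℂ) +
        (a C φ⁻¹ χ : ℂ) * ((φ⁻¹ tC : ℂˣ) : ℂ))]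
    have hterm : ∀ i : R, (a C i.1 χ : ℂ) * ((i.1 tC : ℂˣ) : ℂ) +
        (a C i.1⁻¹ χ : ℂ) * ((i.1⁻¹ tC : ℂˣ) : ℂ) =
        2 * (v χ : ℂ) * r i + 2 * (ε : ℂ) * if μ i = χ then r i else 0 := by
      intro i
      have e1 : a C i.1⁻¹ χ = f i χ := by simp only [f, a, A_inv h]
      rw [e1, hrinv, show a C i.1 χ = f i χ from rfl, hrel]
      show _ * r i + _ = _
      split_ifs <;> push_cast <;> ring
    rw [Finset.sum_congr rfl fun i _ => hterm i, Finset.sum_add_distrib, ← Finset.mul_sum, hrsum,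
      ← Finset.mul_sum]
    push_cast
    ring
  -- degrees
  choose d hd0 hd1 using fun χ : Cfsg.IrrCharacter G => irr_one_pos χ.2
  have hdiv : ∀ χ : Cfsg.IrrCharacter G, (∀ i, μ i ≠ χ) → ((2 * n : ℕ) : ℤ) ∣ (d χ : ℤ) + (z χ - 2 * v χ) := by
    intro χ hχ
    obtain ⟨m, hm, ha⟩ := exists_mult h χ
    have h1 := hm 1
    simp only [OneMemClass.coe_one, hd1, map_one, Units.val_one, mul_one] at h1
    have h1' : (d χ : ℤ) = ∑ φ, m φ := by exact_mod_cast h1
    have h2 : ∑ φ, a C φ χ = z χ + ((2 * (n : ℤ) - 2) * v χ) := by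
      have h3 : ((∑ φ, a C φ χ : ℤ) : ℂ) = (z χ : ℂ) + ((2 * (n : ℤ) - 2 : ℤ) : ℂ) * (v χ : ℂ) := by
        push_cast
        rw [hsum fun φ => (a C φ χ : ℂ), SmallSimple.Exceptional.a_one,
          ← Finset.sum_coe_sort R (fun φ => (a C φ χ : ℂ) + (a C φ⁻¹ χ : ℂ)),
          Finset.sum_congr rfl (g := fun _ => 2 * (v χ : ℂ)) fun i _ => by
            have e1 : a C i.1⁻¹ χ = f i χ := by simp only [f, a, A_inv h]
            rw [e1, show a C i.1 χ = f i χ from rfl, hrel, if_neg (hχ i)]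
            push_cast; ring,
          Finset.sum_const, Finset.card_univ, Fintype.card_coe, hRcard, nsmul_eq_mul,
          Nat.cast_sub (by omega)]
        push_cast
        show (0 : ℂ) + (z χ : ℂ) + _ = _
        ring
      exact_mod_cast h3
    refine ⟨m 1 - v χ, ?_⟩
    rw [Finset.sum_congr rfl fun φ _ => ha φ, Finset.sum_sub_distrib, Finset.sum_const, Finset.card_univ,
      ← Nat.card_eq_fintype_card, card_dual h, nsmul_eq_mul, ← h1'] at h2
    push_cast at h2 ⊢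
    linarith
  have hdμ : ∀ i, d (μ i) = d (μ o) := by
    intro i
    have h1 := congrFun (hd i) 1
    simp only [Pi.sub_apply, SmallSimple.Exceptional.A_one, sub_self, Pi.smul_apply, smul_eq_mul, hd1] at h1
    rcases mul_eq_zero.1 h1.symm with h0 | h0
    · have : ε = 0 := by exact_mod_cast h0
      omega
    · exact_mod_cast sub_eq_zero.1 h0
  set O := Finset.univ.erase (trivIrr G) \ Finset.univ.image μ with hOdef
  have hnot : ∀ χ ∈ O, χ ≠ trivIrr G ∧ ∀ i, μ i ≠ χ := by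
    intro χ hχ
    simp only [hOdef, Finset.mem_sdiff, Finset.mem_erase, Finset.mem_image, Finset.mem_univ, true_and,
      and_true, not_exists] at hχ
    exact ⟨hχ.1, hχ.2⟩
  -- the class equation
  have hS := sum_cube h
  rw [card_eq h hcov] at hS
  set T := ∑ χ ∈ O, ((z χ : ℝ)) ^ 3 / (d χ : ℝ) with hT
  have hsplit : ∑ χ : Cfsg.IrrCharacter G,
      (χ : G → ℂ) t * (χ : G → ℂ) t * conj ((χ : G → ℂ) t) / (χ : G → ℂ) 1 = ((1 + T : ℝ) : ℂ) := by
    rw [← Finset.add_sum_erase _ _ (Finset.mem_univ (trivIrr G)), trivIrr_coe]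
    simp only [map_one, mul_one, div_one]
    rw [← Finset.sum_sdiff (s₁ := Finset.univ.image μ) (s₂ := Finset.univ.erase (trivIrr G))
      (fun χ hχ => by
        obtain ⟨j, -, rfl⟩ := Finset.mem_image.1 hχ
        exact Finset.mem_erase.2 ⟨(hμ0 j).1, Finset.mem_univ _⟩), ← hOdef,
      Finset.sum_image (fun a _ b _ e => hμ e)]
    have h1 : ∀ i : R, ((μ i : G → ℂ) t * (μ i : G → ℂ) t * conj ((μ i : G → ℂ) t) / (μ i : G → ℂ) 1) =
        (-8 * (ε : ℂ) / (d (μ o) : ℂ)) * r i := by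
      intro i
      rw [hval, (hμ0 i).2.2, Finset.sum_eq_single i (fun j _ hj => if_neg fun e => hj (hμ e))
        (fun h' => absurd (Finset.mem_univ i) h'), if_pos rfl, hd1, hdμ]
      rcases hε with rfl | rfl <;> rcases hr i with e | e <;> rw [e] <;> simp [map_ofNat] <;> ring
    have h2 : ∀ χ ∈ O, (χ : G → ℂ) t * (χ : G → ℂ) t * conj ((χ : G → ℂ) t) / (χ : G → ℂ) 1 =
        (((z χ : ℝ) ^ 3 / (d χ : ℝ) : ℝ) : ℂ) := by
      intro χ hχ
      rw [hval, Finset.sum_eq_zero fun i _ => if_neg ((hnot χ hχ).2 i), mul_zero, sub_zero, hd1,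
        map_intCast]
      push_cast
      ring
    rw [Finset.sum_congr rfl h2, Finset.sum_congr rfl fun i _ => h1 i, ← Finset.mul_sum, hrsum,
      mul_zero, add_zero, hT]
    push_cast
    ring
  rw [hsplit] at hS
  have hTle : T ≤ 3 / (2 * (n : ℝ) - 1) := by
    have hn' : (0 : ℝ) < 2 * (n : ℝ) - 1 := by
      have : (9 : ℝ) ≤ n := by exact_mod_cast hn9
      linarith
    calc T ≤ ∑ χ ∈ O, ((z χ : ℝ)) ^ 2 / (2 * (n : ℝ) - 1) := ?_
      _ ≤ 3 / (2 * (n : ℝ) - 1) := by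
        rw [← Finset.sum_div]
        gcongr
        exact_mod_cast hzO
    refine Finset.sum_le_sum fun χ hχ => ?_
    by_cases hz' : z χ = 0
    · rw [hz']; simp
    · obtain ⟨hz1, hzv⟩ := hO χ hχ
      have hd2 : d χ ≠ 1 := SmallSimple.Exceptional.degree_ne_one hG (hnot χ hχ).1 (hd1 χ) |>.ne'
      have hdge : 2 * n - 1 ≤ d χ := by
        have h3 := hdiv χ (hnot χ hχ).2
        have := hd0 χ
        rcases hzv hz' with e | e <;> rw [e] at h3
        · have h4 := Int.le_of_dvd (by omega) h3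
          omega
        · have h4 := Int.le_of_dvd (by omega) h3
          omega
      have hdR : 2 * (n : ℝ) - 1 ≤ (d χ : ℝ) := by
        have : ((2 * n - 1 : ℕ) : ℝ) ≤ (d χ : ℝ) := by exact_mod_cast hdge
        rw [Nat.cast_sub (by omega)] at this
        push_cast at this
        exact this
      have hz1' : (z χ : ℝ) ^ 3 ≤ (z χ : ℝ) ^ 2 := by
        have hz2 : z χ ≤ 1 := by nlinarith
        have : (z χ : ℝ) ≤ 1 := by exact_mod_cast hz2
        nlinarith [sq_nonneg (z χ : ℝ)]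
      calc (z χ : ℝ) ^ 3 / (d χ : ℝ) ≤ (z χ : ℝ) ^ 2 / (d χ : ℝ) :=
            div_le_div_of_nonneg_right hz1' (Nat.cast_nonneg _)
        _ ≤ _ := div_le_div_of_nonneg_left (sq_nonneg _) hn' hdR
  have hreal : (4 * (n : ℝ) * (2 * n * (2 * n - 1) + 1)) * (1 + T) = 32 * (n : ℝ) ^ 3 := by
    have h3 : ((2 * n - 1 : ℕ) : ℂ) = 2 * (n : ℂ) - 1 := by
      rw [Nat.cast_sub (by omega)]; push_cast; ring
    push_cast [h3] at hS
    exact_mod_cast hS
  have hn' : (9 : ℝ) ≤ n := by exact_mod_cast hn9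
  have hT1 : T * (2 * (n : ℝ) - 1) ≤ 3 := (le_div_iff₀ (by linarith)).1 hTle
  have hm : 0 ≤ 4 * (n : ℝ) * (2 * n * (2 * n - 1) + 1) := by nlinarith
  have := mul_le_mul_of_nonneg_left hT1 hm
  nlinarith [mul_nonneg (sq_nonneg (n : ℝ)) (show (0 : ℝ) ≤ (n : ℝ) - 9 by linarith)]

end Cfsg.Agent.GStructB.AbelianSylowThree
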